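/-
Effaceable delta functors are universal; comparison criteria.
-/
import Groth.Prelude.Def_DeltaF
import Mathlib.CategoryTheory.Abelian.Refinements
import Mathlib.CategoryTheory.Limits.Shapes.Pullback.HasPullback
import Mathlib.CategoryTheory.Limits.FunctorCategory.EpiMono
import Mathlib.CategoryTheory.Abelian.FunctorCategory

set_option autoImplicit false

open CategoryTheory CategoryTheory.Limits

namespace Groth.Agent.Lib.DeltaF.Universal

universe v u v' u'

variable {A : Type u} [Category.{v} A] [Abelian A] {B : Type u'} [Category.{v'} B] [Abelian B]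

/-- The short exact sequence of a monomorphism. -/
noncomputable abbrev ses {X Y : A} (f : X ⟶ Y) : ShortComplex A :=
  ShortComplex.mk f (cokernel.π f) (cokernel.condition f)

lemma ses_shortExact {X Y : A} (f : X ⟶ Y) [Mono f] : (ses f).ShortExact where
  exact := ShortComplex.exact_of_g_is_cokernel _ (cokernelIsCokernel f)

lemma ses_morphism {S : ShortComplex A} (hS : S.ShortExact) {X Y : A} (f : X ⟶ Y) (a : S.X₁ ⟶ X)
    (b : S.X₂ ⟶ Y) (w : a ≫ f = S.f ≫ b) : ∃ φ : S ⟶ ses f, φ.τ₁ = a ∧ φ.τ₂ = b := by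
  have hb : S.f ≫ b ≫ cokernel.π f = 0 := by
    rw [← reassoc_of% w, cokernel.condition, comp_zero]
  refine ⟨{ τ₁ := a, τ₂ := b, τ₃ := hS.gIsCokernel.desc (CokernelCofork.ofπ (b ≫ cokernel.π f) hb),
            comm₁₂ := w, comm₂₃ := ?_ }, rfl, rfl⟩
  exact (hS.gIsCokernel.fac (CokernelCofork.ofπ (b ≫ cokernel.π f) hb) WalkingParallelPair.one).symm

variable (T T' : _root_.DeltaF.CohDeltaFunctor A B ℕ)

lemma epi_δ {X Y : A} (u : X ⟶ Y) [Mono u] (n : ℕ) (hu : (T.F (n + 1)).map u = 0) :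
    Epi (T.δ (ses u) (ses_shortExact u) n (n + 1) rfl) :=
  (ShortComplex.mk _ _ (T.δ_comp (ses u) (ses_shortExact u) n (n + 1) rfl)).exact_iff_epi hu |>.1
    (T.exact₁ _ _ n (n + 1) rfl)

variable {T T'}

lemma exists_step_app {n : ℕ} (a : T.F n ⟶ T'.F n) {X Y : A} (u : X ⟶ Y) [Mono u]
    (hu : (T.F (n + 1)).map u = 0) :
    ∃ b : (T.F (n + 1)).obj X ⟶ (T'.F (n + 1)).obj X,
      T.δ (ses u) (ses_shortExact u) n (n + 1) rfl ≫ b =
        a.app _ ≫ T'.δ (ses u) (ses_shortExact u) n (n + 1) rfl := by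
  have hepi : Epi (ShortComplex.mk _ _ (T.comp_δ (ses u) (ses_shortExact u) n (n + 1) rfl)).g := epi_δ T u n hu
  have h0 : (T.F n).map (ses u).g ≫ a.app (ses u).X₃ ≫
      T'.δ (ses u) (ses_shortExact u) n (n + 1) rfl = 0 := by
    rw [← Category.assoc, a.naturality, Category.assoc, T'.comp_δ, comp_zero]
  have hex := T.exact₃ (ses u) (ses_shortExact u) n (n + 1) rfl
  exact ⟨hex.gIsCokernel.desc (CokernelCofork.ofπ _ h0),
    hex.gIsCokernel.fac (CokernelCofork.ofπ _ h0) WalkingParallelPair.one⟩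

/-- Compatibility of a component with all connecting morphisms. -/
def Compat {n : ℕ} (a : T.F n ⟶ T'.F n) (X : A) (b : (T.F (n + 1)).obj X ⟶ (T'.F (n + 1)).obj X) : Prop :=
  ∀ (S : ShortComplex A) (hS : S.ShortExact) (e : S.X₁ = X),
    T.δ S hS n (n + 1) rfl ≫ (T.F (n + 1)).map (eqToHom e) ≫ b =
      a.app S.X₃ ≫ T'.δ S hS n (n + 1) rfl ≫ (T'.F (n + 1)).map (eqToHom e)

lemma exists_compat (hT : T.IsEffaceable) {n : ℕ} (a : T.F n ⟶ T'.F n) (X : A) :
    ∃ b, Compat a X b := by
  obtain ⟨Y, u, hu, hu0⟩ := hT n X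
  obtain ⟨b, hb⟩ := exists_step_app a u hu0
  refine ⟨b, fun S hS e => ?_⟩
  subst e
  simp only [eqToHom_refl, CategoryTheory.Functor.map_id, Category.id_comp, Category.comp_id]
  have := hS.mono_f
  let v : S.X₁ ⟶ pushout u S.f := u ≫ pushout.inl u S.f
  have hv : Mono v := mono_comp _ _
  have hv0 : (T.F (n + 1)).map v = 0 := by
    rw [Functor.map_comp, hu0, zero_comp]
  obtain ⟨b', hb'⟩ := exists_step_app a v hv0
  obtain ⟨ψ, hψ₁, -⟩ := ses_morphism (ses_shortExact u) v (𝟙 _) (pushout.inl u S.f) (Category.id_comp _)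
  obtain ⟨φ, hφ₁, -⟩ := ses_morphism hS v (𝟙 _) (pushout.inr u S.f)
    ((Category.id_comp _).trans pushout.condition)
  have nψ := T.δ_natural (ses_shortExact u) (ses_shortExact v) ψ n (n + 1) rfl
  have nψ' := T'.δ_natural (ses_shortExact u) (ses_shortExact v) ψ n (n + 1) rfl
  have nφ := T.δ_natural hS (ses_shortExact v) φ n (n + 1) rfl
  have nφ' := T'.δ_natural hS (ses_shortExact v) φ n (n + 1) rfl
  simp only [hψ₁, hφ₁] at nψ nψ' nφ nφ'
  erw [CategoryTheory.Functor.map_id, Category.comp_id] at nψ nψ' nφ nφ'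
  have hbb : b' = b := by
    have := epi_δ T u n hu0
    rw [← cancel_epi (T.δ (ses u) (ses_shortExact u) n (n + 1) rfl), hb, ← nψ, ← nψ', Category.assoc]
    erw [hb']
    rw [← Category.assoc, a.naturality, Category.assoc]
  rw [← nφ, ← nφ', Category.assoc]
  rw [← hbb]
  erw [hb']
  rw [← Category.assoc, a.naturality, Category.assoc]

/-- The next component. -/
noncomputable def next (hT : T.IsEffaceable) {n : ℕ} (a : T.F n ⟶ T'.F n) :
    T.F (n + 1) ⟶ T'.F (n + 1) where
  app X := (exists_compat hT a X).choose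
  naturality X X' h := by
    obtain ⟨Y, u, hu, hu0⟩ := hT n X
    have := epi_δ T u n hu0
    let v : X' ⟶ pushout h u := pushout.inl h u
    have hv : Mono v := inferInstanceAs (Mono (pushout.inl h u))
    obtain ⟨φ, hφ₁, -⟩ := ses_morphism (ses_shortExact u) v h (pushout.inr h u) pushout.condition
    have n1 := T.δ_natural (ses_shortExact u) (ses_shortExact v) φ n (n + 1) rfl
    have n2 := T'.δ_natural (ses_shortExact u) (ses_shortExact v) φ n (n + 1) rfl
    rw [hφ₁] at n1 n2
    have c := (exists_compat hT a X).choose_spec (ses u) (ses_shortExact u) rfl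
    have c' := (exists_compat hT a X').choose_spec (ses v) (ses_shortExact v) rfl
    simp only [eqToHom_refl, CategoryTheory.Functor.map_id, Category.id_comp, Category.comp_id] at c c'
    rw [← cancel_epi (T.δ (ses u) (ses_shortExact u) n (n + 1) rfl)]
    rw [← Category.assoc, ← n1, Category.assoc]
    erw [c', reassoc_of% c]
    rw [← Category.assoc, a.naturality, Category.assoc]
    erw [n2]

lemma next_comm (hT : T.IsEffaceable) {n : ℕ} (a : T.F n ⟶ T'.F n) (S : ShortComplex A) (hS : S.ShortExact) :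
    T.δ S hS n (n + 1) rfl ≫ (next hT a).app S.X₁ = a.app S.X₃ ≫ T'.δ S hS n (n + 1) rfl := by
  have c := (exists_compat hT a S.X₁).choose_spec S hS rfl
  simp only [eqToHom_refl, CategoryTheory.Functor.map_id, Category.id_comp, Category.comp_id] at c
  exact c

theorem isUniversal_of_isEffaceable (hT : T.IsEffaceable) : T.IsUniversal := by
  intro T' t
  let app : ∀ n, T.F n ⟶ T'.F n := fun n =>
    Nat.rec (motive := fun n => T.F n ⟶ T'.F n) t (fun n a => next hT a) n
  refine ⟨{ app := app, comm := fun S hS n₀ n₁ h => ?_ }, rfl, fun σ hσ => ?_⟩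
  · subst h
    exact next_comm hT (app n₀) S hS
  · ext n : 1
    change σ.app n = app n
    induction n with
    | zero => exact hσ
    | succ n ih =>
      ext X
      obtain ⟨Y, u, hu, hu0⟩ := hT n X
      have := epi_δ T u n hu0
      refine (cancel_epi (T.δ (ses u) (ses_shortExact u) n (n + 1) rfl)).1 ?_
      exact ((σ.comm _ _ _ _ rfl).trans (by rw [ih])).trans (next_comm hT (app n) _ _).symm

lemma mono_succ (hT : T.IsEffaceable) (φ : T ⟶ T') (i : ℕ) (hm : Mono (φ.app i)) (he : Epi (φ.app i)) :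
    Mono (φ.app (i + 1)) := by
  suffices ∀ X, Mono ((φ.app (i + 1)).app X) from NatTrans.mono_of_mono_app _
  intro X
  obtain ⟨Y, u, hu, hu0⟩ := hT i X
  have hepi := epi_δ T u i hu0
  refine Preadditive.mono_of_cancel_zero _ fun {Z} x hx => ?_
  obtain ⟨Z₁, e₁, he₁, z, hz⟩ := surjective_up_to_refinements_of_epi
    (T.δ (ses u) (ses_shortExact u) i (i + 1) rfl) x
  obtain ⟨Z₂, e₂, he₂, w, hw⟩ := (T'.exact₃ (ses u) (ses_shortExact u) i (i + 1) rfl).exact_up_to_refinements
    (z ≫ (φ.app i).app _) (by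
      change (z ≫ (φ.app i).app _) ≫ T'.δ (ses u) (ses_shortExact u) i (i + 1) rfl = 0
      rw [Category.assoc, ← φ.comm, ← reassoc_of% hz]
      erw [hx]
      exact comp_zero)
  have hwY : Epi ((φ.app i).app Y) := inferInstance
  obtain ⟨Z₃, e₃, he₃, w', hw'⟩ := surjective_up_to_refinements_of_epi ((φ.app i).app Y) w
  have hmQ : Mono ((φ.app i).app (ses u).X₃) := inferInstance
  have key : (e₃ ≫ e₂) ≫ z = w' ≫ (T.F i).map (ses u).g := by
    rw [← cancel_mono ((φ.app i).app (ses u).X₃), Category.assoc, Category.assoc, Category.assoc,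
      (φ.app i).naturality]
    exact (congrArg (e₃ ≫ ·) hw).trans ((Category.assoc _ _ _).symm.trans
      ((congrArg (· ≫ _) hw').trans (Category.assoc _ _ _)))
  rw [← cancel_epi ((e₃ ≫ e₂) ≫ e₁), comp_zero, Category.assoc, hz, ← Category.assoc]
  exact (congrArg (· ≫ _) key).trans ((Category.assoc _ _ _).trans
    ((congrArg (w' ≫ ·) (T.comp_δ _ _ _ _ rfl)).trans comp_zero))

lemma epi_succ (φ : T ⟶ T') (i : ℕ) (he : Epi (φ.app i))
    (hT' : ∀ X : A, ∃ (Y : A) (u : X ⟶ Y), Mono u ∧ (T'.F (i + 1)).map u = 0) :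
    Epi (φ.app (i + 1)) := by
  suffices ∀ X, Epi ((φ.app (i + 1)).app X) from NatTrans.epi_of_epi_app _
  intro X
  obtain ⟨Y, u, hu, hu0⟩ := hT' X
  have hepi := epi_δ T' u i hu0
  have : Epi ((φ.app i).app (ses u).X₃) := inferInstance
  have : Epi ((φ.app i).app (ses u).X₃ ≫ T'.δ (ses u) (ses_shortExact u) i (i + 1) rfl) := epi_comp _ _
  rw [← φ.comm] at this
  exact epi_of_epi (T.δ (ses u) (ses_shortExact u) i (i + 1) rfl) _

theorem isEffaceable_iff [EnoughInjectives A] :
    T.IsEffaceable ↔ ∀ (n : ℕ) (I : A), Injective I → IsZero ((T.F (n + 1)).obj I) := by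
  constructor
  · intro h n I hI
    obtain ⟨Y, u, hu, hu0⟩ := h n I
    rw [IsZero.iff_id_eq_zero, ← (T.F (n + 1)).map_id, ← Injective.comp_factorThru (𝟙 I) u,
      Functor.map_comp, hu0, zero_comp]
  · intro h n X
    exact ⟨Injective.under X, Injective.ι X, inferInstance, (h n _ inferInstance).eq_of_tgt _ _⟩

end Groth.Agent.Lib.DeltaF.Universal
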